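import Cfsg.Agent.Mrg.Omega.IId.SymWr.SylN.One
import Cfsg.Agent.Mrg.Omega.IId.SymWr.Ht.Fr


/-!
# II.d, `SwBig`, T-T: THEOREM SYL_n for the frame `Ht.Fr`

* `SN.of_fr` : the hypotheses `SN` of THEOREM SYL_n from the frame;
* `Ht.Fr.zv` : **(ZV)** : `Ω₁Z(O₂(P)) = V`;
* `Ht.Fr.lem2`, `Ht.Fr.lem3`, `Ht.Fr.perm_t` : LEMMA 2, LEMMA 3;
* `Ht.Fr.syl` : **THEOREM SYL_n**.
-/

set_option autoImplicit false

namespace Cfsg.Agent.Omega.IId.SymWr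

open Subgroup Cfsg Cfsg.Agent.Omega.FFThm
open Cfsg.Agent.ZN (o2 zc)
open Cfsg.Agent.Omega.Half.SymA (Pt E Mv pm)
open Cfsg.Agent.MinSimple.VModule (mem_zc)

universe u

variable {G : Type u} [Group G] {P V : Subgroup G} {k m : ℕ}

/-- `SN` from 916's frame -/
theorem SN.of_fr [Finite G] {S : Sylow 2 G} {M : SymK (S : Subgroup G) P V ⊥ k m} (h : Ht.Fr S P V M) :
    SN S P V M where
  toSit := h.toSit
  c2 := h.char2
  zV := h.amb.zc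
  QP _ _ hpq hne := h.Qle hpq hne
  Qpp _ _ hpq hne _ hx := h.Qpp hpq hne hx
  VQ _ _ hpq hne := h.V_le hpq hne
  par _ _ hpq hne := by
    obtain ⟨w, hw, -, hwp⟩ := h.exists_w hpq hne
    exact ⟨w, hw, hwp⟩

namespace Ht.Fr

variable [Finite G] {S : Sylow 2 G} {M : SymK (S : Subgroup G) P V ⊥ k m} (h : Ht.Fr S P V M)
include h

/-- **(ZV)** -/
theorem mem_V {z : G} (hzz : z * z = 1) (hz : ∀ x ∈ o2 P, x * z = z * x) : z ∈ V := (SN.of_fr h).zv hzz hz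

/-- **(ZV)** -/
theorem zv : zc (o2 P) = V :=
  le_antisymm (fun z hz => h.mem_V (by rw [← pow_two]; exact (mem_zc.1 hz).2.2) (mem_zc.1 hz).2.1) h.VZ

variable {μ ν : Equiv.Perm (Pt k m)} (F : Fours M μ ν) {x₀ : Pt k m} (hx : x₀.2 ≠ 0)
include F hx

/-- **THEOREM SYL_n** -/
theorem syl : ¬ 2 ∣ ((S : Subgroup G) ⊓ centralizer ({pr M x₀ (μ x₀)} : Set G)).relIndex
    (centralizer ({pr M x₀ (μ x₀)} : Set G)) := (SN.of_fr h).sylT F hx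

/-- **THEOREM SYL_n**, the maximal form -/
theorem syl_max {R : Subgroup G} (hR : IsPGroup 2 R) (hRc : R ≤ centralizer ({pr M x₀ (μ x₀)} : Set G))
    (hTR : (S : Subgroup G) ⊓ centralizer ({pr M x₀ (μ x₀)} : Set G) ≤ R) :
    R ≤ (S : Subgroup G) ⊓ centralizer ({pr M x₀ (μ x₀)} : Set G) := (SN.of_fr h).sylT_max F hx hR hRc hTR

variable {t : G} (ht : t ∈ centralizer ({pr M x₀ (μ x₀)} : Set G))
  (htn : t ∈ normalizer (((S : Subgroup G) ⊓ centralizer ({pr M x₀ (μ x₀)} : Set G) : Subgroup G) : Set G))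

include ht htn

/-- **LEMMA 2** -/
theorem lem2 {v : G} (hv : v ∈ V) (hE : E M v x₀ = E M v (μ x₀)) :
    t * v * t⁻¹ ∈ V ∧ E M (t * v * t⁻¹) x₀ = E M (t * v * t⁻¹) (μ x₀) := (SN.of_fr h).lem2 F hx ht htn hv hE

/-- **LEMMA 3** -/
theorem lem3 : t ∈ normalizer (V : Set G) := (SN.of_fr h).lem3_norm F hx ht htn

/-- `t` permutes the `S`-duads different from `n` -/
theorem perm_t {p : Pt k m} (hp : p.2 ≠ 0) (hp1 : p ≠ x₀) (hp2 : p ≠ μ x₀) :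
    ∃ c : Pt k m, c.2 ≠ 0 ∧ c ≠ x₀ ∧ c ≠ μ x₀ ∧ t * pr M p (μ p) * t⁻¹ = pr M c (μ c) :=
  (SN.of_fr h).perm_t F hx ht htn hp hp1 hp2

end Ht.Fr

end Cfsg.Agent.Omega.IId.SymWr
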