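import Cfsg.Agent.Mrg.Omega.IId.SymWr.SylN.One
import Cfsg.Agent.Mrg.Omega.IId.SymWrD.FOneAll
import Cfsg.Agent.Mrg.Omega.IId.SymWr.LThm


/-!
# II.d, `SwBig`: THEOREM SYL_n for an ARBITRARY partner (every stage, every `k ≥ 1`, `m ≥ 2`)

`SN.of_one` : the hypotheses `SN` of THEOREM SYL_n (`SN.zv`, `SN.one`, `SN.lem2`, `SN.lem3`, `SN.sylT`) from the
situation `Sit` (F1 for all duads is `Sit.fOne`) and ONE element `w` of some `K_n = {g ∈ C_G(n) : [O₂(C_G(n)), g] ≤ ⟨n⟩}`
acting as the transposition `(p q)`, `n = pr M p q`.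
-/

set_option autoImplicit false

namespace Cfsg.Agent.Omega.IId.SymWr

open Subgroup Pointwise Cfsg Cfsg.Agent.ZN Cfsg.Agent.Omega.MinPar Cfsg.Agent.Omega.FFThm
open Cfsg.Agent.Omega.Half.SymA (Pt E Mv pm)
open Triangle (KK KK_conj KK_le_o2 mem_cent mem_KK mem_zpowers_iff_of_sq)
open Big (cz qz conj_of_comm comm_of_conj)

universe u

variable {G : Type u} [Group G] [Finite G] {P V : Subgroup G} {k m : ℕ} {S : Sylow 2 G}
  {M : SymK (S : Subgroup G) P V ⊥ k m}

/-- `V ≤ K_n` -/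
theorem Sit.V_le_KK (h : Sit S P V M) {p q : Pt k m} (hpq : p.1 = q.1) (hne : p ≠ q) : V ≤ KK (pr M p q) := by
  classical
  intro v hv
  refine mem_KK.2 ⟨h.Vcomm hv (pr_mem M p q), fun g hg => ?_⟩
  have hgP := h.qle hpq hne hg
  have hvi : v⁻¹ = v := inv_eq_of_mul_eq_one_left (h.Vsq hv)
  have e : v * g * v⁻¹ * g⁻¹ = v * (g * v * g⁻¹) := by
    calc v * g * v⁻¹ * g⁻¹ = v * (g * v⁻¹ * g⁻¹) := by group
      _ = v * (g * v * g⁻¹) := by rw [hvi]
  rw [e]
  have h1 : g * v * g⁻¹ = v ∨ g * v * g⁻¹ = pr M p q * v := by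
    rcases h.qpp hpq hne hg with h2 | h2
    · left
      refine Half.SymA.inj M (h.amb.conj_mem hgP hv) hv fun r => ?_
      rw [E_conj' hgP hv, h2]
      rfl
    · by_cases hE : E M v p = E M v q
      · left
        refine Half.SymA.inj M (h.amb.conj_mem hgP hv) hv fun r => ?_
        rw [E_conj' hgP hv, h2, Equiv.swap_inv, E_swap M hE]
      · right
        refine Half.SymA.inj M (h.amb.conj_mem hgP hv) (mul_mem (pr_mem M p q) hv) fun r => ?_
        rw [E_conj' hgP hv, h2, Equiv.swap_inv, Half.SymA.E_mul M (pr_mem M p q) hv, E_pr M hpq]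
        have h3 : ∀ a b : ZMod 2, a ≠ b → a = 1 + b := by decide
        rcases eq_or_ne r p with rfl | hr
        · rw [Equiv.swap_apply_left, if_pos rfl, if_neg hne, add_zero]
          exact h3 _ _ (Ne.symm hE)
        · rcases eq_or_ne r q with rfl | hr'
          · rw [Equiv.swap_apply_right, if_neg hne.symm, if_pos rfl, zero_add]
            exact h3 _ _ hE
          · rw [Equiv.swap_apply_of_ne_of_ne hr hr', if_neg hr, if_neg hr', add_zero, zero_add]
  rcases h1 with h1 | h1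
  · rw [h1, h.Vsq hv]
    exact one_mem _
  · rw [h1, h.Vcomm (pr_mem M p q) hv, ← mul_assoc, h.Vsq hv, one_mul]
    exact mem_zpowers _

/-- **The hypotheses of THEOREM SYL_n from one element of some `K_n`.** -/
theorem SN.of_one (h : Sit S P V M) (c2 : IsCharacteristicTwoType G)
    (hw : ∃ p q : Pt k m, p.1 = q.1 ∧ p ≠ q ∧ ∃ w ∈ KK (pr M p q), pp M w = Equiv.swap p q) : SN S P V M where
  toSit := h
  c2 := c2
  zV := h.amb.zc
  QP _ _ hpq hne := h.qle hpq hne
  Qpp _ _ hpq hne _ hx := h.qpp hpq hne hx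
  VQ p q hpq hne := (h.V_le_KK hpq hne).trans
    (KK_le_o2 (h.Vsq (pr_mem M p q))
      (MinSimple.Basic.char2_centralizer c2 (by rw [pow_two]; exact h.Vsq (pr_mem M p q)) (pr_ne_one M hpq hne)))
  par p q hpq hne := by
    classical
    obtain ⟨p', q', hpq', hne', w, hwK, hwp⟩ := hw
    obtain ⟨g, hg, hgp⟩ := exists_conj_pr h hpq' hne' hpq hne
    have hKP : KK (pr M p' q') ≤ P := (KK_le_o2 (h.Vsq (pr_mem M p' q'))
      (MinSimple.Basic.char2_centralizer c2 (by rw [pow_two]; exact h.Vsq (pr_mem M p' q'))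
        (pr_ne_one M hpq' hne'))).trans (h.qle hpq' hne')
    have h1 : g * w * g⁻¹ ∈ KK (pr M p q) := by
      have := KK_conj (h := g) hwK
      rwa [hgp] at this
    have h2 : (pp M g p' = p ∧ pp M g q' = q) ∨ (pp M g p' = q ∧ pp M g q' = p) := by
      have h3 := h.conj_pr hg hpq'
      rw [hgp] at h3
      have h4 : (pp M g p').1 = (pp M g q').1 := h.fst hg hpq'
      have h5 : pp M g p' ≠ pp M g q' := fun h0 => hne' ((pp M g).injective h0)
      have h6 : ∀ r, E M (pr M p q) r ≠ 0 → r = p ∨ r = q := by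
        intro r hr
        by_contra hc
        rw [not_or] at hc
        exact hr (E_pr_of_ne M hpq hc.1 hc.2)
      have h7 := h6 (pp M g p') (by rw [h3, E_pr_left M h4 h5]; exact one_ne_zero)
      have h8 := h6 (pp M g q') (by rw [h3, E_pr_right M h4 h5]; exact one_ne_zero)
      rcases h7 with h7 | h7 <;> rcases h8 with h8 | h8
      · exact absurd (h7.trans h8.symm) h5
      · exact Or.inl ⟨h7, h8⟩
      · exact Or.inr ⟨h7, h8⟩
      · exact absurd (h7.trans h8.symm) h5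
    refine ⟨g * w * g⁻¹, h1, ?_⟩
    rw [h.conj hg (hKP hwK), hwp]
    have h9 : pp M g * Equiv.swap p' q' * (pp M g)⁻¹ = Equiv.swap (pp M g p') (pp M g q') :=
      Equiv.swap_apply_apply (pp M g) p' q' |>.symm
    rw [h9]
    rcases h2 with ⟨h3, h4⟩ | ⟨h3, h4⟩
    · rw [h3, h4]
    · rw [h3, h4, Equiv.swap_comm]

end Cfsg.Agent.Omega.IId.SymWr
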