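import Cfsg.Agent.Mrg.Omega.IId.SymWr.SylN.Base

section


/-!
# II.d, `SwBig`: `T_n = C_S(n)` is Sylow in `C_G(n)` (bb OMEGA #19775, helper666), III: LEMMA 1

* `SN.perp` : `n^⊥ ≤ Ω₁Z(Q_n)`; `SN.zc_le_Q`, `SN.zc_conj`;
* `SN.one` : **LEMMA 1** : `y ∈ Ω₁Z(Q_n)`, `[y, Q] = ⟨a⟩` of order 2 ⇒ `a = n`.
-/

set_option autoImplicit false
set_option linter.unusedSectionVars false

namespace Cfsg.Agent.Omega.IId.SymWr

open Subgroup Pointwise Cfsg Cfsg.Agent.ZN Cfsg.Agent.Omega.MinPar Cfsg.Agent.Omega.FFThm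
open Cfsg.Agent.Omega.Half (Amb amb_of_loc)
open Cfsg.Agent.Omega.Half.SymA (Pt E Mv pm)
open Cfsg.Agent.MinSimple.VModule (mem_zc zc_le zc_comm zc_sq zc_le_zl le_normalizer_o2 o2_isPGroup o2_le
  normalizer_le_normalizer_zc le_normalizer_zl)
open Triangle (KK KK_conj KK_le_o2 mem_cent mem_KK mem_zpowers_iff_of_sq cent_conj o2_cent_conj)
open Big (cz qz conj_mem norm_of conj_of_comm comm_of_conj le_o2_of)
open Big.Syl (YY mem_YY YY_le exists_mem_zc)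

universe u

variable {G : Type u} [Group G] {P V : Subgroup G} {k m : ℕ}

/-- an element of `C_G(p)` normalises `Ω₁Z(Q_p)` -/
theorem zc_conj' {p c x : G} (hc : c * p = p * c) (hx : x ∈ zc (qz p)) : c * x * c⁻¹ ∈ zc (qz p) :=
  conj_mem ((MinSimple.VModule.le_normalizer_o2 (cz p)).trans (MinSimple.VModule.normalizer_le_normalizer_zc _))
    (mem_cent.2 hc) hx

namespace SN

variable [Finite G] {S : Sylow 2 G} {M : SymK (S : Subgroup G) P V ⊥ k m} (h : SN S P V M)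
include h

/-- `n^⊥ ≤ Ω₁Z(Q_n)` -/
theorem perp {p q : Pt k m} (hpq : p.1 = q.1) (hne : p ≠ q) {v : G} (hv : v ∈ V) (hE : E M v p = E M v q) :
    v ∈ zc (qz (pr M p q)) := by
  refine mem_zc.2 ⟨h.VQ p q hpq hne hv, fun x hx => ?_, by rw [pow_two]; exact h.Vsq hv⟩
  have hxP := h.QP p q hpq hne hx
  rcases h.Qpp p q hpq hne x hx with h1 | h1
  · exact h.QcV (h.mem_Q_of hpq hne hx h1) hv
  · exact (h.act_iff hxP hpq hne h1 hv).2 hE

/-- the elements of `Ω₁Z(Q_n)` commute with `V` -/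
theorem zcV {p q : Pt k m} (hpq : p.1 = q.1) (hne : p ≠ q) {y v : G} (hy : y ∈ zc (qz (pr M p q))) (hv : v ∈ V) :
    y * v = v * y := ((mem_zc.1 hy).2.1 v (h.VQ p q hpq hne hv)).symm

theorem zc_le_Q {p q : Pt k m} (hpq : p.1 = q.1) (hne : p ≠ q) : zc (qz (pr M p q)) ≤ o2 P := by
  refine h.NQ ((o2_isPGroup _).to_le (zc_le _)) (fun y hy => mem_centralizer_iff.2 fun v hv =>
    (h.zcV hpq hne hy hv).symm) ?_
  apply norm_of
  intro c hc y hy
  exact zc_conj' (mem_centralizer_iff.1 hc _ (pr_mem M p q)).symm hy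

/-- an element of `V ∩ Ω₁Z(Q_n)` is orthogonal to `n` -/
theorem E_of_zc {p q : Pt k m} (hpq : p.1 = q.1) (hne : p ≠ q) {v : G} (hv : v ∈ V) (hz : v ∈ zc (qz (pr M p q))) :
    E M v p = E M v q := by
  obtain ⟨w, hw, hwp⟩ := h.par p q hpq hne
  have hwq := h.KK_le hpq hne hw
  exact (h.act_iff (h.QP p q hpq hne hwq) hpq hne hwp hv).1 ((mem_zc.1 hz).2.1 w hwq)

/-- `Ω₁Z(Q_n) ∩ C(Ω₁Z(Q_r)) ≤ Q_r` if `n ∈ Ω₁Z(Q_r)` -/
theorem mem_qz_of {p q a b : Pt k m} (hpq : p.1 = q.1) (hne : p ≠ q) (hab : a.1 = b.1) (hnab : a ≠ b)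
    (hE : E M (pr M p q) a = E M (pr M p q) b) {y : G} (hy : y ∈ zc (qz (pr M p q)))
    (hyc : ∀ c ∈ zc (qz (pr M a b)), y * c = c * y) : y ∈ qz (pr M a b) := by
  obtain ⟨N, hN⟩ : ∃ N : Subgroup G, N = cz (pr M a b) ⊓ centralizer (zc (qz (pr M a b)) : Set G) := ⟨_, rfl⟩
  obtain ⟨A, hA⟩ : ∃ A : Subgroup G, A = zc (qz (pr M p q)) ⊓ centralizer (zc (qz (pr M a b)) : Set G) := ⟨_, rfl⟩
  have hn : pr M p q ∈ zc (qz (pr M a b)) := h.perp hab hnab (pr_mem M p q) hE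
  have hAN : A ≤ N := by
    rw [hA, hN]
    exact fun x hx => ⟨mem_cent.2 (h.zcV hpq hne hx.1 (pr_mem M a b)), hx.2⟩
  have hNN : N ≤ normalizer (A : Set G) := by
    rw [hN, hA]
    apply norm_of
    rintro c ⟨hc1, hc2⟩ x ⟨hx1, hx2⟩
    refine ⟨zc_conj' (mem_centralizer_iff.1 hc2 _ hn).symm hx1, ?_⟩
    exact (centralizer (zc (qz (pr M a b)) : Set G)).mul_mem (mul_mem hc2 hx2) (inv_mem hc2)
  have hNle : N ≤ cz (pr M a b) := by rw [hN]; exact inf_le_left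
  have hNn : cz (pr M a b) ≤ normalizer (N : Set G) := by
    rw [hN]
    apply norm_of
    rintro c hc x ⟨hx1, hx2⟩
    refine ⟨(cz _).mul_mem ((cz _).mul_mem hc hx1) ((cz _).inv_mem hc), mem_centralizer_iff.2 fun u hu => ?_⟩
    have hu' : c⁻¹ * u * c⁻¹⁻¹ ∈ zc (qz (pr M a b)) := zc_conj' (mem_cent.1 (inv_mem hc)) hu
    rw [inv_inv] at hu'
    have h2 := mem_centralizer_iff.1 hx2 _ hu'
    calc u * (c * x * c⁻¹) = c * ((c⁻¹ * u * c) * x) * c⁻¹ := by group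
      _ = c * x * c⁻¹ * u := by rw [h2]; group
  have hA2 : IsPGroup 2 A := by
    rw [hA]
    exact (o2_isPGroup _).to_le (inf_le_left.trans (zc_le _))
  have key : A ≤ qz (pr M a b) := le_o2_of hA2 hAN hNN hNle hNn
  apply key
  rw [hA]
  exact ⟨hy, mem_centralizer_iff.2 fun c hc => (hyc c hc).symm⟩

/-- **LEMMA 1.** -/
theorem one {p q : Pt k m} (hpq : p.1 = q.1) (hne : p ≠ q) {y a : G} (hy : y ∈ zc (qz (pr M p q))) (ha1 : a ≠ 1)
    (hQ : ∀ x ∈ o2 P, x * y * x⁻¹ = y ∨ x * y * x⁻¹ = a * y) (hex : ∃ x ∈ o2 P, x * y * x⁻¹ = a * y) :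
    a = pr M p q := by
  classical
  obtain ⟨x₀, hx₀, hx₀y⟩ := hex
  have haU : a ∈ zc (qz (pr M p q)) := by
    have h1 : a = (x₀ * y * x₀⁻¹) * y⁻¹ := by rw [hx₀y]; group
    rw [h1]
    exact mul_mem (zc_conj' (h.QcV hx₀ (pr_mem M p q)) hy) (inv_mem hy)
  have haa : a * a = 1 := by
    have := (mem_zc.1 haU).2.2
    rwa [pow_two] at this
  have hai : a⁻¹ = a := inv_eq_of_mul_eq_one_left haa
  have haQ : ∀ r ∈ o2 P, r * a = a * r := by
    intro r hr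
    apply comm_of_conj
    have e1 : r * x₀ * y * (r * x₀)⁻¹ = (r * a * r⁻¹) * (r * y * r⁻¹) := by
      calc r * x₀ * y * (r * x₀)⁻¹ = r * (x₀ * y * x₀⁻¹) * r⁻¹ := by group
        _ = (r * a * r⁻¹) * (r * y * r⁻¹) := by rw [hx₀y]; group
    have hne' : r * a * r⁻¹ ≠ 1 := fun h0 => ha1 (by
      calc a = r⁻¹ * (r * a * r⁻¹) * r := by group
        _ = 1 := by rw [h0]; group)
    rcases hQ r hr with h1 | h1 <;> rcases hQ (r * x₀) (mul_mem hr hx₀) with h2 | h2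
    · exfalso
      rw [e1, h1] at h2
      exact hne' (mul_eq_right.1 h2)
    · rw [e1, h1] at h2
      exact mul_right_cancel h2
    · rw [e1, h1, ← mul_assoc] at h2
      have h3 := mul_eq_right.1 h2
      exact (eq_inv_of_mul_eq_one_left h3).trans hai
    · exfalso
      rw [e1, h1] at h2
      exact hne' (mul_eq_right.1 h2)
  have haV := h.zv haa haQ
  -- the duads disjoint from `n`
  have claim : ∀ c d : Pt k m, c.1 = d.1 → c ≠ d → c ≠ p → c ≠ q → d ≠ p → d ≠ q → E M a c = E M a d := by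
    intro c d hcd hncd hcp hcq hdp hdq
    by_contra hE
    obtain ⟨w, hw, hwp⟩ := h.par c d hcd hncd
    have hwq := h.KK_le hcd hncd hw
    have hwP := h.QP c d hcd hncd hwq
    have hwa : w * a * w⁻¹ = pr M c d * a := (h.act hwP hcd hncd hwp haV).2 hE
    have hr1 := pr_ne_one M hcd hncd
    -- (1)
    have s1 : ∀ u ∈ zc (qz (pr M c d)), y * u = u * y := by
      intro u hu
      rcases hQ u (h.zc_le_Q hcd hncd hu) with h1 | h1
      · exact (comm_of_conj h1).symm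
      · exfalso
        have h2 : a ∈ zc (qz (pr M c d)) := by
          have h3 : a = u * (y * u⁻¹ * y⁻¹) := by
            calc a = (a * y) * y⁻¹ := by group
              _ = u * (y * u⁻¹ * y⁻¹) := by rw [← h1]; group
          rw [h3]
          exact mul_mem hu (zc_conj' (h.zcV hpq hne hy (pr_mem M c d)) (inv_mem hu))
        exact hE (h.E_of_zc hcd hncd haV h2)
    -- (2)
    have hEn : E M (pr M p q) c = E M (pr M p q) d := by
      rw [E_pr_of_ne M hpq hcp hcq, E_pr_of_ne M hpq hdp hdq]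
    have hyq : y ∈ qz (pr M c d) := h.mem_qz_of hpq hne hcd hncd hEn hy s1
    -- (3)
    obtain ⟨ρ, hρ, hρy⟩ : ∃ ρ ∈ V, w * y * w⁻¹ = ρ * y := by
      rcases h.KK_act hw hyq with h1 | h1
      · exact ⟨1, one_mem _, by rw [one_mul]; exact h1⟩
      · exact ⟨_, pr_mem M c d, h1⟩
    have hx' : w * x₀ * w⁻¹ ∈ o2 P := h.nQ hwP hx₀
    have e1 : (w * x₀ * w⁻¹) * (ρ * y) * (w * x₀ * w⁻¹)⁻¹ = pr M c d * a * (ρ * y) := by
      calc (w * x₀ * w⁻¹) * (ρ * y) * (w * x₀ * w⁻¹)⁻¹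
          = w * x₀ * w⁻¹ * (w * y * w⁻¹) * (w * x₀ * w⁻¹)⁻¹ := by rw [hρy]
        _ = w * (x₀ * y * x₀⁻¹) * w⁻¹ := by group
        _ = (w * a * w⁻¹) * (w * y * w⁻¹) := by rw [hx₀y]; group
        _ = pr M c d * a * (ρ * y) := by rw [hwa, hρy]
    have e2 : (w * x₀ * w⁻¹) * (ρ * y) * (w * x₀ * w⁻¹)⁻¹ =
        ρ * ((w * x₀ * w⁻¹) * y * (w * x₀ * w⁻¹)⁻¹) := by
      calc (w * x₀ * w⁻¹) * (ρ * y) * (w * x₀ * w⁻¹)⁻¹
          = ((w * x₀ * w⁻¹) * ρ) * y * (w * x₀ * w⁻¹)⁻¹ := by group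
        _ = ρ * ((w * x₀ * w⁻¹) * y * (w * x₀ * w⁻¹)⁻¹) := by rw [h.QcV hx' hρ]; group
    rw [e1] at e2
    have hρa : ρ * a = a * ρ := h.Vcomm hρ haV
    rcases hQ _ hx' with h6 | h6
    · rw [h6] at e2
      have h8 := mul_eq_right.1 e2
      -- `pr c d * a = 1`
      have h9 : a = pr M c d := by
        have h10 := eq_inv_of_mul_eq_one_right h8
        rw [h10]
        exact inv_eq_of_mul_eq_one_left (h.pr_sq c d)
      apply hE
      rw [h9, E_pr_left M hcd hncd, E_pr_right M hcd hncd]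
    · rw [h6] at e2
      have h8 : pr M c d * a * (ρ * y) = a * (ρ * y) := by
        rw [e2, ← mul_assoc, hρa, mul_assoc]
      have h9 := mul_right_cancel h8
      exact hr1 (mul_eq_right.1 h9)
  have hEpq : E M a p = E M a q := h.E_of_zc hpq hne haV haU
  obtain ⟨r₀, hr₀, hr₀s⟩ := exists_pt4 h.hm p.1 ({p, q} : Finset (Pt k m)) (Finset.card_le_two.trans (by norm_num))
  rw [Finset.mem_insert, Finset.mem_singleton, not_or] at hr₀s
  obtain ⟨b, hb⟩ : ∃ b, b = a * sc (E M a p + E M a r₀) (pr M p q) := ⟨_, rfl⟩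
  have hscV : sc (E M a p + E M a r₀) (pr M p q) ∈ V := sc_mem (pr_mem M p q)
  have hbV : b ∈ V := by rw [hb]; exact mul_mem haV hscV
  have hbE : ∀ r, E M b r = E M a r + (E M a p + E M a r₀) * E M (pr M p q) r := by
    intro r
    rw [hb, Half.SymA.E_mul M haV hscV, E_sc]
  have hz2 : ∀ x y : ZMod 2, x + (x + y) * 1 = y := by decide
  have hb0 : ∀ r : Pt k m, r.1 = p.1 → E M b r = E M a r₀ := by
    intro r hr
    rcases eq_or_ne r p with rfl | hrp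
    · rw [hbE, E_pr_left M hpq hne]
      exact hz2 _ _
    · rcases eq_or_ne r q with rfl | hrq
      · rw [hbE, E_pr_right M hpq hne, hEpq]
        exact hz2 _ _
      · rw [hbE, E_pr_of_ne M hpq hrp hrq, mul_zero, add_zero]
        rcases eq_or_ne r r₀ with rfl | h0
        · rfl
        · exact claim r r₀ (hr.trans hr₀.symm) h0 hrp hrq hr₀s.1 hr₀s.2
  have hb1 : b = 1 := by
    refine eq_one_of_const M h.hm1 hbV fun c d hcd hncd => ?_
    by_cases hc : c.1 = p.1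
    · rw [hb0 c hc, hb0 d (hcd.symm.trans hc)]
    · have hcp : c ≠ p := fun h0 => hc (by rw [h0])
      have hcq : c ≠ q := fun h0 => hc (by rw [h0, hpq])
      have hdp : d ≠ p := fun h0 => hc (by rw [hcd, h0])
      have hdq : d ≠ q := fun h0 => hc (by rw [hcd, h0, hpq])
      rw [hbE, hbE, E_pr_of_ne M hpq hcp hcq, E_pr_of_ne M hpq hdp hdq, mul_zero, add_zero, add_zero]
      exact claim c d hcd hncd hcp hcq hdp hdq
  rw [hb] at hb1
  rcases Half.SymA.zmod2 (E M a p + E M a r₀) with h1 | h1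
  · rw [h1, sc_zero, mul_one] at hb1
    exact absurd hb1 ha1
  · rw [h1, sc_one] at hb1
    rw [eq_inv_of_mul_eq_one_left hb1]
    exact inv_eq_of_mul_eq_one_left (h.pr_sq p q)

end SN

end Cfsg.Agent.Omega.IId.SymWr

end

section


/-!
# II.d, `SwBig`: `T_n = C_S(n)` is Sylow in `C_G(n)` (bb OMEGA #19775, helper666), IV: LEMMA 2

`n = pr M x₀ (μ x₀)` an `S`-duad, `T = C_S(n)`, `t ∈ C_G(n)` normalising `T`:

* `exists_nu` : a 2-group in `T` moving a letter `c ∉ n`: a vector `ν` outside `n` with an orbit of length 2;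
* `tv` : the centres of the elements of `S` acting as transvections;
* `fix_t`, `lem2`, `lem2'` : **LEMMA 2** : `t` normalises `n^⊥`; `perm_t` : `t` permutes the `S`-duads `≠ n`.
-/

set_option autoImplicit false
set_option linter.unusedSectionVars false

namespace Cfsg.Agent.Omega.IId.SymWr

open Subgroup Pointwise Cfsg Cfsg.Agent.ZN Cfsg.Agent.Omega.MinPar Cfsg.Agent.Omega.FFThm
open Cfsg.Agent.Omega.Half (Amb amb_of_loc)
open Cfsg.Agent.Omega.Half.SymA (Pt E Mv pm)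
open Cfsg.Agent.MinSimple.VModule (mem_zc zc_le zc_comm zc_sq zc_le_zl le_normalizer_o2 o2_isPGroup o2_le
  normalizer_le_normalizer_zc le_normalizer_zl)
open Triangle (KK KK_conj KK_le_o2 mem_cent mem_KK mem_zpowers_iff_of_sq cent_conj o2_cent_conj)
open Big (cz qz conj_mem norm_of conj_of_comm comm_of_conj le_o2_of)
open Big.Syl (YY mem_YY YY_le exists_mem_zc)

universe u

variable {G : Type u} [Group G] {P V : Subgroup G} {k m : ℕ}

section tools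

variable {S : Subgroup G} (M : SymK S P V ⊥ k m)

open scoped Classical in
theorem E_zz {c q : Pt k m} (hq : q.2 ≠ 0) : E M (pr M (c.1, 0) c) q = if q = c then 1 else 0 := by
  rw [E_pr M (p := (c.1, 0)) (q := c) rfl, if_neg (fun h0 : q = (c.1, 0) => hq (by rw [h0])), zero_add]

/-- the elements of `V` vanishing at two points -/
def van (a b : Pt k m) : Subgroup G where
  carrier := {v | v ∈ V ∧ E M v a = 0 ∧ E M v b = 0}
  mul_mem' := by
    rintro v w ⟨hv, h1, h2⟩ ⟨hw, h3, h4⟩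
    refine ⟨mul_mem hv hw, ?_, ?_⟩
    · rw [Half.SymA.E_mul M hv hw, h1, h3, add_zero]
    · rw [Half.SymA.E_mul M hv hw, h2, h4, add_zero]
  one_mem' := ⟨one_mem _, Half.SymA.E_one M _, Half.SymA.E_one M _⟩
  inv_mem' := by
    rintro v ⟨hv, h1, h2⟩
    have hz : ∀ r, E M v⁻¹ r = E M v r := by
      intro r
      have h3 := Half.SymA.E_mul M hv (inv_mem hv) r
      rw [mul_inv_cancel, Half.SymA.E_one M] at h3
      have : ∀ x y : ZMod 2, 0 = x + y → y = x := by decide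
      exact this _ _ h3
    exact ⟨inv_mem hv, by rw [hz, h1], by rw [hz, h2]⟩

theorem mem_van {a b : Pt k m} {v : G} : v ∈ van M a b ↔ v ∈ V ∧ E M v a = 0 ∧ E M v b = 0 := Iff.rfl

end tools

namespace Sit

variable {S : Sylow 2 G} {M : SymK (S : Subgroup G) P V ⊥ k m} (h : Sit S P V M)
include h

theorem pp_zero {s : G} (hs : s ∈ (S : Subgroup G)) (c : Pt k m) : pp M s (c.1, 0) = ((pp M s c).1, 0) :=
  Prod.ext (h.fst (h.SP hs) rfl) ((h.snd hs).2 rfl)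

theorem conj_zz {s : G} (hs : s ∈ (S : Subgroup G)) (c : Pt k m) :
    s * pr M (c.1, 0) c * s⁻¹ = pr M ((pp M s c).1, 0) (pp M s c) := by
  rw [h.conj_pr (h.SP hs) (p := (c.1, 0)) (q := c) rfl, h.pp_zero hs]

variable {μ ν : Equiv.Perm (Pt k m)} (F : Fours M μ ν) {x₀ : Pt k m} (hx : x₀.2 ≠ 0)
include F hx

/-- the elements of `S` commuting with the `S`-duad `{x₀, μ x₀}` -/
theorem T_pt {s : G} (hs : s ∈ (S : Subgroup G)) (hsn : s * pr M x₀ (μ x₀) = pr M x₀ (μ x₀) * s) :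
    (pp M s x₀ = x₀ ∧ pp M s (μ x₀) = μ x₀) ∨ (pp M s x₀ = μ x₀ ∧ pp M s (μ x₀) = x₀) := by
  have h1 := (h.comm_iff (h.SP hs) (pr_mem M x₀ (μ x₀))).1 hsn x₀
  rw [E_pr_left M (F.mfst x₀).symm (F.mne x₀ hx).symm] at h1
  have h2 : pp M s x₀ = x₀ ∨ pp M s x₀ = μ x₀ := by
    by_contra hc
    rw [not_or] at hc
    rw [E_pr_of_ne M (F.mfst x₀).symm hc.1 hc.2] at h1
    exact zero_ne_one h1
  rcases h2 with h2 | h2
  · left
    exact ⟨h2, by rw [F.meqv s hs, h2]⟩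
  · right
    exact ⟨h2, by rw [F.meqv s hs, h2, F.msq]⟩

theorem T_out {s : G} (hs : s ∈ (S : Subgroup G)) (hsn : s * pr M x₀ (μ x₀) = pr M x₀ (μ x₀) * s) {c : Pt k m}
    (h1 : c ≠ x₀) (h2 : c ≠ μ x₀) : pp M s c ≠ x₀ ∧ pp M s c ≠ μ x₀ := by
  rcases h.T_pt F hx hs hsn with ⟨h3, h4⟩ | ⟨h3, h4⟩
  · exact ⟨fun h0 => h1 ((pp M s).injective (h0.trans h3.symm)),
      fun h0 => h2 ((pp M s).injective (h0.trans h4.symm))⟩
  · exact ⟨fun h0 => h2 ((pp M s).injective (h0.trans h4.symm)),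
      fun h0 => h1 ((pp M s).injective (h0.trans h3.symm))⟩

/-- the block of `x₀` is preserved -/
theorem T_blk {s : G} (hs : s ∈ (S : Subgroup G)) (hsn : s * pr M x₀ (μ x₀) = pr M x₀ (μ x₀) * s) :
    pp M s (x₀.1, 0) = (x₀.1, 0) := by
  rw [h.pp_zero hs]
  rcases h.T_pt F hx hs hsn with ⟨h3, -⟩ | ⟨h3, -⟩
  · rw [h3]
  · rw [h3, F.mfst]

/-- a 2-group in `C_S(n)` moving a letter outside `n` : half of an orbit -/
theorem exists_nu [Finite G] {R : Subgroup G} (hR2 : IsPGroup 2 R)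
    (hR : ∀ r ∈ R, r ∈ (S : Subgroup G) ∧ r * pr M x₀ (μ x₀) = pr M x₀ (μ x₀) * r) {c : Pt k m} (hc : c.2 ≠ 0)
    (hc1 : c ≠ x₀) (hc2 : c ≠ μ x₀) (hmv : ∃ r ∈ R, pp M r c ≠ c) :
    ∃ ξ ∈ van M x₀ (μ x₀), ∃ b ∈ van M x₀ (μ x₀), b ≠ 1 ∧ (∀ r ∈ R, r * ξ * r⁻¹ = ξ ∨ r * ξ * r⁻¹ = b * ξ) ∧
      ∃ r ∈ R, r * ξ * r⁻¹ = b * ξ := by
  classical
  have hmx : (μ x₀).2 ≠ 0 := fun h0 => hx (F.mnz.1 h0)
  have hzero : ∀ r ∈ R, (pp M r c).2 ≠ 0 := fun r hr h0 => hc ((h.snd (hR r hr).1).1 h0)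
  refine Big.Syl.block (A := van M x₀ (μ x₀)) (N := van M c c) (fun a ha b hb => h.Vcomm ha.1 hb.1) hR2 ?_
    (x := pr M (c.1, 0) c) ?_ ?_ ?_ ?_
  · rintro r hr v ⟨hv, h1, h2⟩
    have hrP := h.SP (hR r hr).1
    have hri := h.T_pt F hx (inv_mem (hR r hr).1)
      (((show Commute r (pr M x₀ (μ x₀)) from (hR r hr).2).inv_left).eq)
    rw [h.inv hrP] at hri
    refine ⟨h.amb.conj_mem hrP hv, ?_, ?_⟩
    · rw [E_conj' hrP hv]
      rcases hri with ⟨h3, -⟩ | ⟨h3, -⟩ <;> rw [h3]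
      · exact h1
      · exact h2
    · rw [E_conj' hrP hv]
      rcases hri with ⟨-, h3⟩ | ⟨-, h3⟩ <;> rw [h3]
      · exact h2
      · exact h1
  · refine ⟨pr_mem M _ _, ?_, ?_⟩
    · rw [E_zz M hx, if_neg hc1.symm]
    · rw [E_zz M hmx, if_neg hc2.symm]
  · obtain ⟨r, hr, hrc⟩ := hmv
    refine ⟨r, hr, fun h0 => ?_⟩
    rw [h.conj_zz (hR r hr).1] at h0
    have h1 := congrArg (fun v => E M v c) h0
    simp only [E_zz M hc] at h1
    rw [if_neg hrc.symm] at h1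
    exact zero_ne_one h1
  · rintro ⟨-, h1, -⟩
    rw [E_zz M hc, if_pos rfl] at h1
    exact one_ne_zero h1
  · intro r hr hne
    rw [h.conj_zz (hR r hr).1] at hne ⊢
    have h1 : c ≠ pp M r c := fun h0 => hne (by rw [← h0])
    have h2 : E M (pr M ((pp M r c).1, 0) (pp M r c)) c = 0 := by rw [E_zz M hc, if_neg h1]
    exact ⟨pr_mem M _ _, h2, h2⟩

omit hx in
/-- **The centres of the elements of `S` acting as transvections.** -/
theorem tv {B : Finset (Pt k m)} (hB2 : B.card ≤ 2) (hB0 : ∀ b ∈ B, b.2 ≠ 0) (hBμ : ∀ b, μ b ∈ B → b ∈ B) {s r : G}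
    (hs : s ∈ (S : Subgroup G)) (h1 : ∀ v ∈ V, (∀ b ∈ B, E M v b = 0) → s * v * s⁻¹ = v ∨ s * v * s⁻¹ = r * v)
    (h2 : ∃ c : Pt k m, c.2 ≠ 0 ∧ c ∉ B ∧ pp M s c ≠ c) : ∃ c : Pt k m, c.2 ≠ 0 ∧ c ∉ B ∧ r = pr M c (μ c) := by
  classical
  -- the moved points
  have hr : ∀ c : Pt k m, c.2 ≠ 0 → c ∉ B → pp M s c ≠ c →
      r = pr M ((pp M s c).1, 0) (pp M s c) * pr M (c.1, 0) c := by
    intro c hc hcB hmv
    have hv : ∀ b ∈ B, E M (pr M (c.1, 0) c) b = 0 := by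
      intro b hb
      rw [E_zz M (hB0 b hb), if_neg (fun h0 : b = c => hcB (h0 ▸ hb))]
    have h3 : s * pr M (c.1, 0) c * s⁻¹ = r * pr M (c.1, 0) c := by
      refine (h1 _ (pr_mem M _ _) hv).resolve_left fun h0 => ?_
      rw [h.conj_zz hs] at h0
      have h4 := congrArg (fun v => E M v c) h0
      simp only [E_zz M hc] at h4
      rw [if_neg hmv.symm] at h4
      exact zero_ne_one h4
    rw [h.conj_zz hs] at h3
    rw [h3, mul_assoc, h.Vsq (pr_mem M _ _), mul_one]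
  have hEr : ∀ c : Pt k m, c.2 ≠ 0 → c ∉ B → pp M s c ≠ c → ∀ q : Pt k m, q.2 ≠ 0 →
      E M r q = (if q = pp M s c then 1 else 0) + (if q = c then 1 else 0) := by
    intro c hc hcB hmv q hq
    rw [hr c hc hcB hmv, Half.SymA.E_mul M (pr_mem M _ _) (pr_mem M _ _), E_zz M hq, E_zz M hq]
  obtain ⟨c, hc, hcB, hmv⟩ := h2
  have hEc : E M r c = 1 := by
    rw [hEr c hc hcB hmv c hc, if_neg hmv.symm, if_pos rfl, zero_add]
  -- step 1
  have hblk : (pp M s c).1 = c.1 := by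
    by_contra hne
    obtain ⟨c₂, hc₂, hc₂s⟩ := exists_pt4 h.hm c.1 (insert (c.1, 0) (insert c B))
      ((Finset.card_insert_le _ _).trans (by
        have := Finset.card_insert_le c B
        omega))
    rw [Finset.mem_insert, Finset.mem_insert, not_or, not_or] at hc₂s
    obtain ⟨h3, h4, h5⟩ := hc₂s
    have h6 : c₂.2 ≠ 0 := fun h0 => h3 (Prod.ext hc₂ h0)
    have h7 : (pp M s c₂).1 = (pp M s c).1 := h.fst (h.SP hs) hc₂
    have h8 : pp M s c₂ ≠ c₂ := fun h0 => hne (by rw [← h7, h0, hc₂])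
    have h9 := hEr c₂ h6 h5 h8 c hc
    rw [if_neg (fun h0 : c = pp M s c₂ => hne (by rw [← h7, ← h0])), if_neg (fun h0 : c = c₂ => h4 h0.symm), hEc,
      add_zero] at h9
    exact one_ne_zero h9
  -- step 2
  have hμc : (μ c).2 ≠ 0 := fun h0 => hc (F.mnz.1 h0)
  have hμB : μ c ∉ B := fun h0 => hcB (hBμ c h0)
  have hμm : pp M s (μ c) ≠ μ c := fun h0 => hmv (μ.injective (by rw [← F.meqv s hs, h0]))
  have h3 := hEr (μ c) hμc hμB hμm c hc
  rw [hEc, if_neg (F.mne c hc).symm, add_zero, F.meqv s hs] at h3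
  have h4 : c = μ (pp M s c) := by
    by_contra h0
    rw [if_neg h0] at h3
    exact one_ne_zero h3
  have h5 : pp M s c = μ c := by rw [h4, F.msq, ← h4]
  refine ⟨c, hc, hcB, ?_⟩
  rw [hr c hc hcB hmv, h5, h.Vcomm (pr_mem M _ _) (pr_mem M _ _), F.mfst, pr_comm M (p := (c.1, 0)) (q := c) rfl,
    pr_mul M (p := c) (q := (c.1, 0)) (r := μ c) rfl (F.mfst c).symm]

end Sit

namespace SN

variable [Finite G] {S : Sylow 2 G} {M : SymK (S : Subgroup G) P V ⊥ k m} (h : SN S P V M)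
  {μ ν : Equiv.Perm (Pt k m)} (F : Fours M μ ν) {x₀ : Pt k m} (hx : x₀.2 ≠ 0)
include h F hx

/-- an element of `C_S(n)` fixing all letters outside `n` centralises `n^⊥` -/
theorem comm_of_fix {s : G} (hs : s ∈ (S : Subgroup G)) (hsn : s * pr M x₀ (μ x₀) = pr M x₀ (μ x₀) * s)
    (hfix : ∀ c : Pt k m, c.2 ≠ 0 → c ≠ x₀ → c ≠ μ x₀ → pp M s c = c) {v : G} (hv : v ∈ V)
    (hE : E M v x₀ = E M v (μ x₀)) : s * v = v * s := by
  classical
  rw [h.comm_iff (h.SP hs) hv]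
  intro p
  by_cases hp1 : p = x₀
  · rw [hp1]
    rcases h.T_pt F hx hs hsn with ⟨h3, -⟩ | ⟨h3, -⟩ <;> rw [h3]
    exact hE.symm
  by_cases hp2 : p = μ x₀
  · rw [hp2]
    rcases h.T_pt F hx hs hsn with ⟨-, h3⟩ | ⟨-, h3⟩ <;> rw [h3]
    exact hE
  by_cases hp0 : p.2 = 0
  · obtain ⟨c, hc, hcs⟩ := exists_pt4 h.hm p.1 ({(p.1, 0), x₀, μ x₀} : Finset (Pt k m))
      (Finset.card_le_three.trans (by norm_num))
    simp only [Finset.mem_insert, Finset.mem_singleton, not_or] at hcs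
    have hc0 : c.2 ≠ 0 := fun h0 => hcs.1 (Prod.ext hc h0)
    have h1 := hfix c hc0 hcs.2.1 hcs.2.2
    have h2 := h.pp_zero hs c
    rw [h1, hc] at h2
    have h3 : p = (p.1, 0) := Prod.ext rfl hp0
    rw [h3, h2]
  · rw [hfix p hp0 hp1 hp2]

variable {t : G} (ht : t ∈ centralizer ({pr M x₀ (μ x₀)} : Set G))
  (htn : t ∈ normalizer (((S : Subgroup G) ⊓ centralizer ({pr M x₀ (μ x₀)} : Set G) : Subgroup G) : Set G))

omit h F hx in
include ht htn in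
theorem conj_T {s : G} (hs : s ∈ (S : Subgroup G)) (hsn : s * pr M x₀ (μ x₀) = pr M x₀ (μ x₀) * s) :
    t * s * t⁻¹ ∈ (S : Subgroup G) ∧ t * s * t⁻¹ * pr M x₀ (μ x₀) = pr M x₀ (μ x₀) * (t * s * t⁻¹) := by
  have h1 := (mem_normalizer_iff.1 htn s).1 (mem_inf.2 ⟨hs, mem_cent.2 hsn⟩)
  exact ⟨h1.1, mem_cent.1 h1.2⟩

omit h F hx in
include ht htn in
theorem conj_T' {s : G} (hs : s ∈ (S : Subgroup G)) (hsn : s * pr M x₀ (μ x₀) = pr M x₀ (μ x₀) * s) :
    t⁻¹ * s * t ∈ (S : Subgroup G) ∧ t⁻¹ * s * t * pr M x₀ (μ x₀) = pr M x₀ (μ x₀) * (t⁻¹ * s * t) := by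
  have := conj_T (inv_mem ht) (inv_mem htn) hs hsn
  rwa [inv_inv] at this

include ht htn in
/-- `O₂(P)^t` fixes the letters outside `n` -/
theorem fix_t {x : G} (hxQ : x ∈ o2 P) {c : Pt k m} (hc : c.2 ≠ 0) (hc1 : c ≠ x₀) (hc2 : c ≠ μ x₀) :
    pp M (t * x * t⁻¹) c = c := by
  by_contra hmv
  have hpq : x₀.1 = (μ x₀).1 := (F.mfst x₀).symm
  have hne : x₀ ≠ μ x₀ := (F.mne x₀ hx).symm
  have htc : t * pr M x₀ (μ x₀) = pr M x₀ (μ x₀) * t := mem_cent.1 ht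
  obtain ⟨Q', hQ'⟩ : ∃ Q' : Subgroup G, Q' = (o2 P).map (MulAut.conj t).toMonoidHom := ⟨_, rfl⟩
  have hQS : ∀ q' ∈ Q', q' ∈ (S : Subgroup G) ∧ q' * pr M x₀ (μ x₀) = pr M x₀ (μ x₀) * q' := by
    rw [hQ']
    rintro _ ⟨r, hr, rfl⟩
    exact conj_T ht htn (h.QS hr) (h.QcV hr (pr_mem M _ _))
  have hQ'2 : IsPGroup 2 Q' := by
    rw [hQ']
    exact (o2_isPGroup P).map _
  have hmem : ∀ r ∈ o2 P, t * r * t⁻¹ ∈ Q' := by
    intro r hr
    rw [hQ']
    exact ⟨r, hr, rfl⟩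
  obtain ⟨ξ, hξ, b, hb, hb1, h1, q₁, hq₁, h2⟩ := h.exists_nu F hx hQ'2 hQS hc hc1 hc2 ⟨_, hmem x hxQ, hmv⟩
  have hξ' : t⁻¹ * ξ * t ∈ zc (qz (pr M x₀ (μ x₀))) := by
    have h3 : ξ ∈ zc (qz (pr M x₀ (μ x₀))) := h.perp hpq hne hξ.1 (hξ.2.1.trans hξ.2.2.symm)
    have := zc_conj' (mem_cent.1 (inv_mem ht)) h3
    rwa [inv_inv] at this
  have h3 : t⁻¹ * b * t = pr M x₀ (μ x₀) := by
    refine h.one hpq hne hξ' ?_ ?_ ?_
    · intro h0
      apply hb1
      calc b = t * (t⁻¹ * b * t) * t⁻¹ := by group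
        _ = 1 := by rw [h0]; group
    · intro r hr
      rcases h1 (t * r * t⁻¹) (hmem r hr) with h4 | h4
      · left
        calc r * (t⁻¹ * ξ * t) * r⁻¹ = t⁻¹ * (t * r * t⁻¹ * ξ * (t * r * t⁻¹)⁻¹) * t := by group
          _ = t⁻¹ * ξ * t := by rw [h4]
      · right
        calc r * (t⁻¹ * ξ * t) * r⁻¹ = t⁻¹ * (t * r * t⁻¹ * ξ * (t * r * t⁻¹)⁻¹) * t := by group
          _ = t⁻¹ * b * t * (t⁻¹ * ξ * t) := by rw [h4]; group
    · rw [hQ'] at hq₁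
      obtain ⟨r, hr, rfl⟩ := hq₁
      have h4 : t * r * t⁻¹ * ξ * (t * r * t⁻¹)⁻¹ = b * ξ := h2
      refine ⟨r, hr, ?_⟩
      calc r * (t⁻¹ * ξ * t) * r⁻¹ = t⁻¹ * (t * r * t⁻¹ * ξ * (t * r * t⁻¹)⁻¹) * t := by group
        _ = t⁻¹ * b * t * (t⁻¹ * ξ * t) := by rw [h4]; group
  have h4 : b = pr M x₀ (μ x₀) := by
    calc b = t * (t⁻¹ * b * t) * t⁻¹ := by group
      _ = t * pr M x₀ (μ x₀) * t⁻¹ := by rw [h3]
      _ = pr M x₀ (μ x₀) := conj_of_comm htc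
  have h5 := hb.2.1
  rw [h4, E_pr_left M hpq hne] at h5
  exact one_ne_zero h5

include ht htn in
/-- **LEMMA 2** for `t⁻¹`. -/
theorem lem2' {v : G} (hv : v ∈ V) (hE : E M v x₀ = E M v (μ x₀)) :
    t⁻¹ * v * t ∈ V ∧ E M (t⁻¹ * v * t) x₀ = E M (t⁻¹ * v * t) (μ x₀) := by
  have hpq : x₀.1 = (μ x₀).1 := (F.mfst x₀).symm
  have hne : x₀ ≠ μ x₀ := (F.mne x₀ hx).symm
  have h1 : t⁻¹ * v * t ∈ V := by
    refine h.zv ?_ fun q hq => ?_
    · calc t⁻¹ * v * t * (t⁻¹ * v * t) = t⁻¹ * (v * v) * t := by group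
        _ = 1 := by rw [h.Vsq hv]; group
    · obtain ⟨h2, h3⟩ := conj_T ht htn (h.QS hq) (h.QcV hq (pr_mem M _ _))
      have h4 := h.comm_of_fix F hx h2 h3 (fun c hc hc1 hc2 => h.fix_t F hx ht htn hq hc hc1 hc2) hv hE
      calc q * (t⁻¹ * v * t) = t⁻¹ * (t * q * t⁻¹ * v) * t := by group
        _ = t⁻¹ * v * t * q := by rw [h4]; group
  refine ⟨h1, h.E_of_zc hpq hne h1 ?_⟩
  have := zc_conj' (mem_cent.1 (inv_mem ht)) (h.perp hpq hne hv hE)
  rwa [inv_inv] at this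

include ht htn in
/-- **LEMMA 2.** -/
theorem lem2 {v : G} (hv : v ∈ V) (hE : E M v x₀ = E M v (μ x₀)) :
    t * v * t⁻¹ ∈ V ∧ E M (t * v * t⁻¹) x₀ = E M (t * v * t⁻¹) (μ x₀) := by
  have := h.lem2' F hx (inv_mem ht) (inv_mem htn) hv hE
  rwa [inv_inv] at this

include ht htn in
/-- `t` permutes the `S`-duads different from `n` -/
theorem perm_t {p : Pt k m} (hp : p.2 ≠ 0) (hp1 : p ≠ x₀) (hp2 : p ≠ μ x₀) :
    ∃ c : Pt k m, c.2 ≠ 0 ∧ c ≠ x₀ ∧ c ≠ μ x₀ ∧ t * pr M p (μ p) * t⁻¹ = pr M c (μ c) := by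
  classical
  have hpp : p.1 = (μ p).1 := (F.mfst p).symm
  have hpne : p ≠ μ p := (F.mne p hp).symm
  have hμp1 : μ p ≠ x₀ := fun h0 => hp2 (by rw [← h0, F.msq])
  have hμp2 : μ p ≠ μ x₀ := fun h0 => hp1 (μ.injective h0)
  have hμx : (μ x₀).2 ≠ 0 := fun h0 => hx (F.mnz.1 h0)
  have hμp0 : (μ p).2 ≠ 0 := fun h0 => hp (F.mnz.1 h0)
  obtain ⟨s, hs, hsp⟩ := Fours.exists_A h.toSit F (π := Equiv.swap p (μ p)) (by
    intro q
    by_cases h1 : q = p
    · right; rw [h1, Equiv.swap_apply_left]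
    by_cases h2 : q = μ p
    · right; rw [h2, Equiv.swap_apply_right, F.msq]
    · left; exact Equiv.swap_apply_of_ne_of_ne h1 h2)
  have hsS : s ∈ (S : Subgroup G) := hs.1
  have hsP := h.SP hsS
  have hsn : s * pr M x₀ (μ x₀) = pr M x₀ (μ x₀) * s := by
    refine h.comm_pr hsP (F.mfst x₀).symm (Or.inl ⟨?_, ?_⟩)
    · rw [hsp, Equiv.swap_apply_of_ne_of_ne hp1.symm hμp1.symm]
    · rw [hsp, Equiv.swap_apply_of_ne_of_ne hp2.symm hμp2.symm]
  obtain ⟨hgS, hgn⟩ := conj_T ht htn hsS hsn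
  have hEr : E M (pr M p (μ p)) x₀ = E M (pr M p (μ p)) (μ x₀) := by
    rw [E_pr_of_ne M hpp hp1.symm hμp1.symm, E_pr_of_ne M hpp hp2.symm hμp2.symm]
  obtain ⟨c, hc, hcB, hcr⟩ := h.tv F (B := {x₀, μ x₀}) Finset.card_le_two (by
      intro b hb
      rcases Finset.mem_insert.1 hb with rfl | hb
      · exact hx
      · rw [Finset.mem_singleton.1 hb]; exact hμx) (by
      intro b hb
      rcases Finset.mem_insert.1 hb with h1 | h1
      · rw [← h1, F.msq]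
        exact Finset.mem_insert_of_mem (Finset.mem_singleton.2 rfl)
      · rw [μ.injective (Finset.mem_singleton.1 h1)]
        exact Finset.mem_insert_self _ _) (r := t * pr M p (μ p) * t⁻¹) hgS (by
      intro v hv hvB
      have hvE : E M v x₀ = E M v (μ x₀) := by
        rw [hvB x₀ (Finset.mem_insert_self _ _), hvB (μ x₀) (Finset.mem_insert_of_mem (Finset.mem_singleton.2 rfl))]
      obtain ⟨hy, -⟩ := h.lem2' F hx ht htn hv hvE
      by_cases h3 : E M (t⁻¹ * v * t) p = E M (t⁻¹ * v * t) (μ p)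
      · left
        have h4 := (h.act hsP hpp hpne hsp hy).1 h3
        calc t * s * t⁻¹ * v * (t * s * t⁻¹)⁻¹ = t * (s * (t⁻¹ * v * t) * s⁻¹) * t⁻¹ := by group
          _ = v := by rw [h4]; group
      · right
        have h4 := (h.act hsP hpp hpne hsp hy).2 h3
        calc t * s * t⁻¹ * v * (t * s * t⁻¹)⁻¹ = t * (s * (t⁻¹ * v * t) * s⁻¹) * t⁻¹ := by group
          _ = t * pr M p (μ p) * t⁻¹ * v := by rw [h4]; group) (by
      by_contra hcon
      push Not at hcon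
      have h3 : ∀ c : Pt k m, c.2 ≠ 0 → c ≠ x₀ → c ≠ μ x₀ → pp M (t * s * t⁻¹) c = c := by
        intro c hc hc1 hc2
        refine hcon c hc fun h0 => ?_
        rcases Finset.mem_insert.1 h0 with h1 | h1
        · exact hc1 h1
        · exact hc2 (Finset.mem_singleton.1 h1)
      -- the vector `{p, 0}`
      have h4 : E M (pr M (p.1, 0) p) x₀ = E M (pr M (p.1, 0) p) (μ x₀) := by
        rw [E_zz M hx, E_zz M hμx, if_neg hp1.symm, if_neg hp2.symm]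
      obtain ⟨h5, h6⟩ := h.lem2 F hx ht htn (pr_mem M (p.1, 0) p) h4
      have h7 := h.comm_of_fix F hx hgS hgn h3 h5 h6
      have h8 : s * pr M (p.1, 0) p = pr M (p.1, 0) p * s := by
        calc s * pr M (p.1, 0) p = t⁻¹ * (t * s * t⁻¹ * (t * pr M (p.1, 0) p * t⁻¹)) * t := by group
          _ = pr M (p.1, 0) p * s := by rw [h7]; group
      have h9 := (h.act_iff hsP hpp hpne hsp (pr_mem M (p.1, 0) p)).1 h8
      rw [E_zz M hp, E_zz M hμp0, if_pos rfl, if_neg hpne.symm] at h9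
      exact one_ne_zero h9)
  refine ⟨c, hc, fun h0 => hcB ?_, fun h0 => hcB ?_, hcr⟩
  · rw [h0]; exact Finset.mem_insert_self _ _
  · rw [h0]; exact Finset.mem_insert_of_mem (Finset.mem_singleton.2 rfl)

end SN

end Cfsg.Agent.Omega.IId.SymWr

end

section


/-!
# II.d, `SwBig`: `T_n = C_S(n)` is Sylow in `C_G(n)` (bb OMEGA #19775, helper666), V: LEMMA 3 and the theorem

`n = pr M x₀ (μ x₀)` an `S`-duad, `T = C_S(n)`, `t ∈ C_G(n)` normalising `T`: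

* `SN.lem3` : **LEMMA 3** : `t` normalises `V`;
* `SN.sylT_max`, `SN.sylT` : **THEOREM SYL_n** : `C_S(n)` is a Sylow 2-subgroup of `C_G(n)`.
-/

set_option autoImplicit false
set_option linter.unusedSectionVars false

namespace Cfsg.Agent.Omega.IId.SymWr

open Subgroup Pointwise Cfsg Cfsg.Agent.ZN Cfsg.Agent.Omega.MinPar Cfsg.Agent.Omega.FFThm
open Cfsg.Agent.Omega.Half (Amb amb_of_loc)
open Cfsg.Agent.Omega.Half.SymA (Pt E Mv pm)
open Cfsg.Agent.MinSimple.VModule (mem_zc zc_le zc_comm zc_sq zc_le_zl le_normalizer_o2 o2_isPGroup o2_le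
  normalizer_le_normalizer_zc le_normalizer_zl)
open Triangle (KK KK_conj KK_le_o2 mem_cent mem_KK mem_zpowers_iff_of_sq cent_conj o2_cent_conj)
open Big (cz qz conj_mem norm_of conj_of_comm comm_of_conj le_o2_of Red.exists_normalizer)
open Big.Syl (YY mem_YY YY_le exists_mem_zc exists_conj_le)

universe u

variable {G : Type u} [Group G] {P V : Subgroup G} {k m : ℕ}

/-- A maximal 2-subgroup is a Sylow 2-subgroup. -/
theorem not_dvd_of_maximal [Finite G] {T K : Subgroup G} (hT : IsPGroup 2 T) (hTK : T ≤ K)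
    (hmax : ∀ R : Subgroup G, IsPGroup 2 R → R ≤ K → T ≤ R → R ≤ T) : ¬ 2 ∣ T.relIndex K := by
  have hp : Fact (Nat.Prime 2) := ⟨Nat.prime_two⟩
  obtain ⟨R, hR⟩ := (hT.comap_subtype (K := K)).exists_le_sylow
  have h1 : (R : Subgroup K) = T.subgroupOf K := by
    refine le_antisymm (fun r hr => ?_) hR
    have h2 := hmax ((R : Subgroup K).map K.subtype) (R.isPGroup'.map _) (map_subtype_le _)
      (fun u hu => ⟨⟨u, hTK hu⟩, hR (mem_subgroupOf.2 hu), rfl⟩)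
    exact mem_subgroupOf.2 (h2 ⟨r, hr, rfl⟩)
  rw [relIndex, ← h1]
  exact R.not_dvd_index

namespace SN

variable [Finite G] {S : Sylow 2 G} {M : SymK (S : Subgroup G) P V ⊥ k m} (h : SN S P V M)
  {μ ν : Equiv.Perm (Pt k m)} (F : Fours M μ ν) {x₀ : Pt k m} (hx : x₀.2 ≠ 0)
include h F hx

section lem3

variable {t : G} (ht : t ∈ centralizer ({pr M x₀ (μ x₀)} : Set G))
  (htn : t ∈ normalizer (((S : Subgroup G) ⊓ centralizer ({pr M x₀ (μ x₀)} : Set G) : Subgroup G) : Set G))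

include ht htn

/-- the vector `{0, x₀}` -/
theorem conj_e : t * pr M (x₀.1, 0) x₀ * t⁻¹ ∈ V := by
  classical
  have hpq : x₀.1 = (μ x₀).1 := (F.mfst x₀).symm
  have hne : x₀ ≠ μ x₀ := (F.mne x₀ hx).symm
  have htc : t * pr M x₀ (μ x₀) = pr M x₀ (μ x₀) * t := mem_cent.1 ht
  obtain ⟨p, hp1, hps⟩ := exists_pt4 h.hm x₀.1 ({(x₀.1, 0), x₀, μ x₀} : Finset (Pt k m))
    (Finset.card_le_three.trans (by norm_num))
  simp only [Finset.mem_insert, Finset.mem_singleton, not_or] at hps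
  obtain ⟨h1, h2, h3⟩ := hps
  have hp0 : p.2 ≠ 0 := fun h0 => h1 (Prod.ext hp1 h0)
  have hμp0 : (μ p).2 ≠ 0 := fun h0 => hp0 (F.mnz.1 h0)
  have hμp1 : μ p ≠ x₀ := fun h0 => h3 (by rw [← h0, F.msq])
  have hpp : p.1 = (μ p).1 := (F.mfst p).symm
  have hpne : p ≠ μ p := (F.mne p hp0).symm
  obtain ⟨e, he⟩ : ∃ e, e = pr M (x₀.1, 0) x₀ := ⟨_, rfl⟩
  have heV : e ∈ V := by rw [he]; exact pr_mem M _ _
  have heE : E M e p = E M e (μ p) := by
    rw [he, E_zz M hp0, E_zz M hμp0, if_neg h2, if_neg hμp1]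
  have hez := h.perp hpp hpne heV heE
  obtain ⟨c, hc, hc1, hc2, hcr⟩ := h.perm_t F hx ht htn hp0 h2 h3
  have hcc : c.1 = (μ c).1 := (F.mfst c).symm
  have hcne : c ≠ μ c := (F.mne c hc).symm
  rw [← he]
  have hz : t * e * t⁻¹ ∈ zc (qz (pr M c (μ c))) := by
    have h4 := mem_zc.1 hez
    rw [← hcr]
    have h5 : qz (t * pr M p (μ p) * t⁻¹) = (qz (pr M p (μ p))).map (MulAut.conj t).toMonoidHom :=
      o2_cent_conj t (pr M p (μ p))
    rw [h5]
    refine mem_zc.2 ⟨⟨e, h4.1, rfl⟩, ?_, ?_⟩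
    · rintro _ ⟨r, hr, rfl⟩
      show t * r * t⁻¹ * (t * e * t⁻¹) = t * e * t⁻¹ * (t * r * t⁻¹)
      calc t * r * t⁻¹ * (t * e * t⁻¹) = t * (r * e) * t⁻¹ := by group
        _ = t * e * t⁻¹ * (t * r * t⁻¹) := by rw [h4.2.1 r hr]; group
    · rw [pow_two]
      calc t * e * t⁻¹ * (t * e * t⁻¹) = t * (e * e) * t⁻¹ := by group
        _ = 1 := by rw [h.Vsq heV]; group
  have hQz : ∀ q ∈ o2 P, q * (t * e * t⁻¹) * q⁻¹ = t * e * t⁻¹ ∨
      q * (t * e * t⁻¹) * q⁻¹ = pr M x₀ (μ x₀) * (t * e * t⁻¹) := by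
    intro q hq
    obtain ⟨h4, h5⟩ := conj_T' ht htn (h.QS hq) (h.QcV hq (pr_mem M _ _))
    have h6 : (t⁻¹ * q * t) * e * (t⁻¹ * q * t)⁻¹ = pr M (x₀.1, 0) (pp M (t⁻¹ * q * t) x₀) := by
      rw [he, h.conj_zz h4]
      have h7 := h.T_blk F hx h4 h5
      rw [h.pp_zero h4] at h7
      rw [h7]
    have h8 : q * (t * e * t⁻¹) * q⁻¹ = t * ((t⁻¹ * q * t) * e * (t⁻¹ * q * t)⁻¹) * t⁻¹ := by group
    rw [h8, h6]
    rcases h.T_pt F hx h4 h5 with ⟨h9, -⟩ | ⟨h9, -⟩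
    · left
      rw [h9, ← he]
    · right
      have h10 : pr M (x₀.1, 0) (μ x₀) = pr M x₀ (μ x₀) * e := by
        rw [he, h.Vcomm (pr_mem M _ _) (pr_mem M _ _), pr_mul M (p := (x₀.1, 0)) (q := x₀) (r := μ x₀) rfl hpq]
      rw [h9, h10]
      calc t * (pr M x₀ (μ x₀) * e) * t⁻¹ = (t * pr M x₀ (μ x₀) * t⁻¹) * (t * e * t⁻¹) := by group
        _ = pr M x₀ (μ x₀) * (t * e * t⁻¹) := by rw [conj_of_comm htc]
  refine h.zv ?_ fun q hq => ?_
  · calc t * e * t⁻¹ * (t * e * t⁻¹) = t * (e * e) * t⁻¹ := by group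
      _ = 1 := by rw [h.Vsq heV]; group
  · rcases hQz q hq with h4 | h4
    · exact comm_of_conj h4
    · exfalso
      have h5 := h.one hcc hcne hz (pr_ne_one M hpq hne) hQz ⟨q, hq, h4⟩
      have h6 := E_pr_left M hpq hne
      rw [h5, E_pr_of_ne M hcc hc1.symm (fun h0 => hc2 (by rw [h0, F.msq]))] at h6
      exact zero_ne_one h6

/-- **LEMMA 3.** -/
theorem lem3 {v : G} (hv : v ∈ V) : t * v * t⁻¹ ∈ V := by
  have hμx : (μ x₀).2 ≠ 0 := fun h0 => hx (F.mnz.1 h0)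
  by_cases hE : E M v x₀ = E M v (μ x₀)
  · exact (h.lem2 F hx ht htn hv hE).1
  · obtain ⟨e, he⟩ : ∃ e, e = pr M (x₀.1, 0) x₀ := ⟨_, rfl⟩
    have heV : e ∈ V := by rw [he]; exact pr_mem M _ _
    have h1 : E M (e * v) x₀ = E M (e * v) (μ x₀) := by
      classical
      rw [Half.SymA.E_mul M heV hv, Half.SymA.E_mul M heV hv, he, E_zz M hx, E_zz M hμx, if_pos rfl,
        if_neg (F.mne x₀ hx), zero_add]
      have : ∀ x y : ZMod 2, x ≠ y → 1 + x = y := by decide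
      exact this _ _ hE
    have h2 := (h.lem2 F hx ht htn (mul_mem heV hv) h1).1
    have h3 := h.conj_e F hx ht htn
    rw [← he] at h3
    have h4 : t * v * t⁻¹ = (t * e * t⁻¹)⁻¹ * (t * (e * v) * t⁻¹) := by group
    rw [h4]
    exact mul_mem (inv_mem h3) h2

theorem lem3_norm : t ∈ normalizer (V : Set G) := by
  rw [mem_normalizer_iff]
  intro x
  refine ⟨fun hx' => h.lem3 F hx ht htn hx', fun hx' => ?_⟩
  have h1 := h.lem3 F hx (inv_mem ht) (inv_mem htn) hx'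
  have e : t⁻¹ * (t * x * t⁻¹) * t⁻¹⁻¹ = x := by group
  rwa [e] at h1

end lem3

/-- **THEOREM SYL_n**: `C_S(n)` is a maximal 2-subgroup of `C_G(n)`. -/
theorem sylT_max {R : Subgroup G} (hR : IsPGroup 2 R) (hRc : R ≤ centralizer ({pr M x₀ (μ x₀)} : Set G))
    (hTR : (S : Subgroup G) ⊓ centralizer ({pr M x₀ (μ x₀)} : Set G) ≤ R) :
    R ≤ (S : Subgroup G) ⊓ centralizer ({pr M x₀ (μ x₀)} : Set G) := by
  classical
  by_contra hcon
  have hpq : x₀.1 = (μ x₀).1 := (F.mfst x₀).symm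
  have hne : x₀ ≠ μ x₀ := (F.mne x₀ hx).symm
  obtain ⟨T, hT⟩ : ∃ T : Subgroup G, T = (S : Subgroup G) ⊓ centralizer ({pr M x₀ (μ x₀)} : Set G) := ⟨_, rfl⟩
  obtain ⟨t, htR, htT, htn⟩ := Big.Red.exists_normalizer (F := ⊥) bot_le hTR hcon
    (fun r _ => by
      rw [mem_normalizer_iff]
      intro x
      simp only [mem_bot]
      constructor
      · rintro rfl
        simp
      · intro h0
        calc x = r⁻¹ * (r * x * r⁻¹) * r := by group
          _ = 1 := by rw [h0]; group)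
    (fun y hy => by
      obtain ⟨n, hn⟩ := hR ⟨y, hy⟩
      exact ⟨n, by simpa using congrArg Subtype.val hn⟩)
  have ht : t ∈ centralizer ({pr M x₀ (μ x₀)} : Set G) := hRc htR
  have htV := h.lem3_norm F hx ht htn
  rw [← hT] at htT hTR
  obtain ⟨X, hX⟩ : ∃ X : Subgroup G, X = T ⊔ zpowers t := ⟨_, rfl⟩
  have hTX : T ≤ X := by rw [hX]; exact le_sup_left
  have htX : t ∈ X := by
    rw [hX]
    exact le_sup_right (α := Subgroup G) (mem_zpowers t)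
  have hXR : X ≤ R := by
    rw [hX]
    exact sup_le hTR ((zpowers_le).2 htR)
  have hSn : (S : Subgroup G) ≤ normalizer (V : Set G) := h.SP.trans h.PN
  have hTS : T ≤ (S : Subgroup G) := by rw [hT]; exact inf_le_left
  have hXn : X ≤ normalizer (V : Set G) := by
    rw [hX]
    exact sup_le (hTS.trans hSn) ((zpowers_le).2 htV)
  obtain ⟨g, hg, hgX⟩ := exists_conj_le S hSn (hR.to_le hXR) hXn
  -- `g n g⁻¹` is an `S`-duad
  obtain ⟨c, hc, hcn⟩ : ∃ c : Pt k m, c.2 ≠ 0 ∧ g * pr M x₀ (μ x₀) * g⁻¹ = pr M c (μ c) := by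
    obtain ⟨w, hw, hwp⟩ := Fours.exists_A h.toSit F (π := Equiv.swap x₀ (μ x₀)) (by
      intro q
      by_cases h1 : q = x₀
      · right; rw [h1, Equiv.swap_apply_left]
      by_cases h2 : q = μ x₀
      · right; rw [h2, Equiv.swap_apply_right, F.msq]
      · left; exact Equiv.swap_apply_of_ne_of_ne h1 h2)
    have hwS : w ∈ (S : Subgroup G) := hw.1
    have hwP := h.SP hwS
    have hwn : w * pr M x₀ (μ x₀) = pr M x₀ (μ x₀) * w :=
      h.comm_pr hwP hpq (Or.inr ⟨by rw [hwp, Equiv.swap_apply_left], by rw [hwp, Equiv.swap_apply_right]⟩)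
    have hwT : w ∈ T := by
      rw [hT]
      exact mem_inf.2 ⟨hwS, mem_cent.2 hwn⟩
    have hgS := hgX w (hTX hwT)
    have hgi : ∀ v ∈ V, g⁻¹ * v * g ∈ V := by
      intro v hv
      have := (mem_normalizer_iff.1 (inv_mem hg) v).1 hv
      rwa [inv_inv] at this
    obtain ⟨c, hc, -, hcr⟩ := h.tv F (B := ∅) (by simp) (by simp) (by simp) (r := g * pr M x₀ (μ x₀) * g⁻¹) hgS (by
        intro v hv _
        by_cases h3 : E M (g⁻¹ * v * g) x₀ = E M (g⁻¹ * v * g) (μ x₀)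
        · left
          have h4 := (h.act hwP hpq hne hwp (hgi v hv)).1 h3
          calc g * w * g⁻¹ * v * (g * w * g⁻¹)⁻¹ = g * (w * (g⁻¹ * v * g) * w⁻¹) * g⁻¹ := by group
            _ = v := by rw [h4]; group
        · right
          have h4 := (h.act hwP hpq hne hwp (hgi v hv)).2 h3
          calc g * w * g⁻¹ * v * (g * w * g⁻¹)⁻¹ = g * (w * (g⁻¹ * v * g) * w⁻¹) * g⁻¹ := by group
            _ = g * pr M x₀ (μ x₀) * g⁻¹ * v := by rw [h4]; group) (by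
        by_contra hcon2
        push Not at hcon2
        have h3 : pp M (g * w * g⁻¹) = 1 := by
          ext1 q
          by_cases hq : q.2 = 0
          · obtain ⟨c, hc, hcs⟩ := exists_pt4 h.hm q.1 ({(q.1, 0)} : Finset (Pt k m)) (by simp)
            rw [Finset.mem_singleton] at hcs
            have hc0 : c.2 ≠ 0 := fun h0 => hcs (Prod.ext hc h0)
            have h4 := h.pp_zero hgS c
            rw [hcon2 c hc0 (Finset.notMem_empty c), hc] at h4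
            have h5 : q = (q.1, 0) := Prod.ext rfl hq
            rw [h5, h4]
            rfl
          · exact hcon2 q hq (Finset.notMem_empty q)
        have h4 := (h.eq_one_iff (h.SP hgS)).1 h3
        have hE : E M (pr M (x₀.1, 0) x₀) x₀ = E M (pr M (x₀.1, 0) x₀) (μ x₀) := by
          refine (h.act_iff hwP hpq hne hwp (pr_mem M _ _)).1 ?_
          have h5 := mem_centralizer_iff.1 h4 _ ((mem_normalizer_iff.1 hg _).1 (pr_mem M (x₀.1, 0) x₀))
          calc w * pr M (x₀.1, 0) x₀ = g⁻¹ * (g * w * g⁻¹ * (g * pr M (x₀.1, 0) x₀ * g⁻¹)) * g := by group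
            _ = pr M (x₀.1, 0) x₀ * w := by rw [← h5]; group
        rw [E_zz M hx, E_zz M (fun h0 => hx (F.mnz.1 h0)), if_pos rfl, if_neg (F.mne x₀ hx)] at hE
        exact one_ne_zero hE)
    exact ⟨c, hc, hcr⟩
  -- the orders
  obtain ⟨s, hs, hsc⟩ := h.trans hx hc
  have hsn : s * pr M x₀ (μ x₀) * s⁻¹ = pr M c (μ c) := by
    rw [h.conj_pr (h.SP hs) hpq, F.meqv s hs, hsc]
  have h1 : X.map (MulAut.conj g).toMonoidHom ≤ T.map (MulAut.conj s).toMonoidHom := by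
    rintro _ ⟨x, hx', rfl⟩
    have hxm : g * x * g⁻¹ ∈ (S : Subgroup G) := hgX x hx'
    have hxv : x * pr M x₀ (μ x₀) = pr M x₀ (μ x₀) * x := mem_cent.1 (hRc (hXR hx'))
    refine ⟨s⁻¹ * (g * x * g⁻¹) * s, ?_, ?_⟩
    · rw [hT]
      refine mem_inf.2 ⟨mul_mem (mul_mem (inv_mem hs) hxm) hs, mem_cent.2 ?_⟩
      apply comm_of_conj
      have h2 : g * x * g⁻¹ * pr M c (μ c) * (g * x * g⁻¹)⁻¹ = pr M c (μ c) := by
        rw [← hcn]
        calc g * x * g⁻¹ * (g * pr M x₀ (μ x₀) * g⁻¹) * (g * x * g⁻¹)⁻¹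
            = g * (x * pr M x₀ (μ x₀) * x⁻¹) * g⁻¹ := by group
          _ = g * pr M x₀ (μ x₀) * g⁻¹ := by rw [conj_of_comm hxv]
      calc s⁻¹ * (g * x * g⁻¹) * s * pr M x₀ (μ x₀) * (s⁻¹ * (g * x * g⁻¹) * s)⁻¹
          = s⁻¹ * (g * x * g⁻¹ * (s * pr M x₀ (μ x₀) * s⁻¹) * (g * x * g⁻¹)⁻¹) * s := by group
        _ = s⁻¹ * pr M c (μ c) * s := by rw [hsn, h2]
        _ = pr M x₀ (μ x₀) := by rw [← hsn]; group
    · show s * (s⁻¹ * (g * x * g⁻¹) * s) * s⁻¹ = g * x * g⁻¹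
      group
  have h2 : Nat.card X ≤ Nat.card T := by
    have e1 : Nat.card (X.map (MulAut.conj g).toMonoidHom) = Nat.card X :=
      card_map_of_injective (MulAut.conj g).injective
    have e2 : Nat.card (T.map (MulAut.conj s).toMonoidHom) = Nat.card T :=
      card_map_of_injective (MulAut.conj s).injective
    rw [← e1, ← e2]
    exact card_le_of_le h1
  have h3 : T = X := eq_of_le_of_card_ge hTX h2
  apply htT
  rw [h3]
  exact htX

/-- **THEOREM SYL_n**: `C_S(n)` is a Sylow 2-subgroup of `C_G(n)`. -/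
theorem sylT : ¬ 2 ∣ ((S : Subgroup G) ⊓ centralizer ({pr M x₀ (μ x₀)} : Set G)).relIndex
    (centralizer ({pr M x₀ (μ x₀)} : Set G)) :=
  not_dvd_of_maximal (S.isPGroup'.to_le inf_le_left) inf_le_right fun _ hR hRc hTR => h.sylT_max F hx hR hRc hTR

end SN

end Cfsg.Agent.Omega.IId.SymWr

end
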